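import Groth.Agent.MagnetAttrRep.Pure
import Mathlib

/-!
# Finitely many degrees control the images of attractors
-/

set_option autoImplicit false
set_option backward.isDefEq.respectTransparency false
set_option backward.isDefEq.respectTransparency.types false
set_option linter.style.haveILetI false
set_option maxHeartbeats 800000
set_option synthInstance.maxHeartbeats 100000

universe u

open CategoryTheory CategoryTheory.Limits MonoidalCategory CartesianMonoidalCategory MonObj AlgebraicGeometry Opposite

namespace Groth.Agent.MagnetAttrRep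

open Groth.Agent.MagnetAttr Magnet

attribute [local instance 2000] Algebra.toModule

variable {S : Scheme.{u}} {M : Type} [AddCommMonoid M]

/-- Finitely many degrees control the images of all attractors of a scheme affine and of finite type over a quasi-compact base. -/
theorem exists_degrees [CompactSpace S] {X : Over S} [IsAffineHom X.hom] [LocallyOfFiniteType X.hom]
    (a : MonAct (AMonS S M) X) :
    ∃ D : Set M, D.Finite ∧ ∀ (N L : AddSubmonoid M), D ∩ N ⊆ L → ∀ T : Over S,
      Set.range (fun φ => (attrToX a N).app (op T) φ) ⊆ Set.range (fun φ => (attrToX a L).app (op T) φ) := by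
  classical
  haveI : CompactSpace X.left := QuasiCompact.compactSpace_of_compactSpace X.hom
  let 𝒰 := X.left.affineCover.finiteSubcover
  let V : 𝒰.I₀ → Over S := fun k => Over.mk (𝒰.f k ≫ X.hom)
  let j : ∀ k, V k ⟶ X := fun k => Over.homMk (𝒰.f k) rfl
  haveI : ∀ k, IsAffine (V k).left := fun k => inferInstanceAs (IsAffine (Spec _))
  choose D hD hDL using fun k => exists_finite_degrees a (V k) (j k)
  let Dt : Set M := ⋃ k, D k
  have hDt : Dt.Finite := Set.finite_iUnion hD
  refine ⟨Dt, hDt, fun N L hL T => ?_⟩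
  rintro _ ⟨φ, rfl⟩
  obtain ⟨Z, i, e, hi, hiz⟩ := exists_representable a L
  let x := (attrToX a N).app (op T) φ
  let 𝒱 := 𝒰.pullback₁ x.left
  let W : 𝒱.I₀ → Over S := fun k => Over.mk (𝒱.f k ≫ T.hom)
  let w : ∀ k, W k ⟶ T := fun k => Over.homMk (𝒱.f k) rfl
  have hloc : ∀ k, ∃ z : W k ⟶ Z, z ≫ i = w k ≫ x := by
    intro k
    let g : W k ⟶ V k := Over.homMk (pullback.snd x.left (𝒰.f k)) (by
      show pullback.snd x.left (𝒰.f k) ≫ 𝒰.f k ≫ X.hom = pullback.fst x.left (𝒰.f k) ≫ T.hom
      rw [← pullback.condition_assoc, Over.w])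
    have hg : g ≫ j k = w k ≫ x := Over.OverMorphism.ext pullback.condition.symm
    obtain ⟨ψ, hψ⟩ := hDL k N L (fun d hd => hL ⟨Set.mem_iUnion_of_mem k hd.1, hd.2⟩) (W k) g
      ⟨_, (app_map (attrToX a N) (w k) φ).trans hg.symm⟩
    refine ⟨e.homEquiv.symm ψ, ?_⟩
    rw [← hiz, Equiv.apply_symm_apply, hψ, hg]
  choose z hz using hloc
  haveI := hi
  have hc : ∀ k l, pullback.fst (𝒱.f k) (𝒱.f l) ≫ (z k).left = pullback.snd (𝒱.f k) (𝒱.f l) ≫ (z l).left := by
    intro k l
    rw [← cancel_mono i.left, Category.assoc, Category.assoc, ← Over.comp_left, ← Over.comp_left, hz, hz,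
      Over.comp_left, Over.comp_left]
    exact pullback.condition_assoc _
  let z₀ := Scheme.Cover.glueMorphisms 𝒱 (fun k => (z k).left) hc
  have hz₀ : z₀ ≫ i.left = x.left := Scheme.Cover.hom_ext 𝒱 _ _ fun k => by
    rw [← Category.assoc, Scheme.Cover.ι_glueMorphisms]
    exact congrArg CommaMorphism.left (hz k)
  let z' : T ⟶ Z := Over.homMk z₀ (by rw [← Over.w i, reassoc_of% hz₀, Over.w])
  refine ⟨e.homEquiv z', ?_⟩
  exact (hiz T z').trans (Over.OverMorphism.ext hz₀)

end Groth.Agent.MagnetAttrRep
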