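import Groth.Agent.SchDescent.SheafDescAffine
import Groth.Agent.QuotShLib.Fppf
import Mathlib

/-!
# Descent of a functor which is affine over a cover
-/

set_option autoImplicit false
set_option backward.isDefEq.respectTransparency false
set_option backward.isDefEq.respectTransparency.types false
set_option linter.style.haveILetI false
set_option maxHeartbeats 1000000
set_option synthInstance.maxHeartbeats 100000

universe u

open CategoryTheory CategoryTheory.Limits AlgebraicGeometry Opposite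

namespace Groth.Agent.MagnetAtlas

variable {S : Scheme.{u}}

/-- The fppf topology on schemes over `S`. -/
abbrev fppf (S : Scheme.{u}) : GrothendieckTopology (Over S) := QuotSh.J Scheme.fppfPrecoverage S

theorem isSheafFor_cover {F : (Over S)ᵒᵖ ⥤ Type u} (hF : Presheaf.IsSheaf (fppf S) F) {T' T : Over S} (q : T' ⟶ T)
    [Flat q.left] [Surjective q.left] [LocallyOfFinitePresentation q.left] :
    (Presieve.singleton q).IsSheafFor F :=
  Presieve.isSheafFor_iff_generate _ |>.2 (((isSheaf_iff_isSheaf_of_type _ _).1 hF) _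
    (QuotShLib.generate_singleton_mem_J q.left.singleton_mem_fppfPrecoverage))

theorem map_comp' {F : (Over S)ᵒᵖ ⥤ Type u} {A B C : Over S} (g : A ⟶ B) (h : B ⟶ C) (x : F.obj (op C)) :
    F.map g.op (F.map h.op x) = F.map (g ≫ h).op x := by
  rw [op_comp, Functor.map_comp_apply]

theorem ext_cover {F : (Over S)ᵒᵖ ⥤ Type u} (hF : Presheaf.IsSheaf (fppf S) F) {T' T : Over S} (q : T' ⟶ T)
    [Flat q.left] [Surjective q.left] [LocallyOfFinitePresentation q.left] {a b : F.obj (op T)}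
    (h : F.map q.op a = F.map q.op b) : a = b :=
  (Presieve.isSheafFor_singleton.1 (isSheafFor_cover hF q) (F.map q.op a) fun p₁ p₂ e => by
    rw [map_comp', map_comp', e]).unique rfl h.symm

theorem app_homEquiv {F : (Over S)ᵒᵖ ⥤ Type u} {W X : Over S} (e : F.RepresentableBy W) (π : F ⟶ yoneda.obj X)
    {T : Over S} (z : T ⟶ W) : π.app (op T) (e.homEquiv z) = z ≫ π.app (op W) (e.homEquiv (𝟙 W)) := by
  rw [e.homEquiv_eq z]
  exact ConcreteCategory.congr_hom (π.naturality z.op) _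

/-- A sheaf on schemes over `S` with a map to `X` whose pullback along an fppf cover is affine over the cover is
representable and affine over `X`. -/
theorem exists_representable {U X : Over S} (f : U ⟶ X) [Flat f.left] [Surjective f.left]
    [LocallyOfFinitePresentation f.left] {FU FX : (Over S)ᵒᵖ ⥤ Type u} (hFX : Presheaf.IsSheaf (fppf S) FX)
    (μ : FU ⟶ FX) (πU : FU ⟶ yoneda.obj U) (πX : FX ⟶ yoneda.obj X) (hsq : IsPullback μ πU πX (yoneda.map f))
    {W : Over S} (eU : FU.RepresentableBy W) [IsAffineHom (πU.app (op W) (eU.homEquiv (𝟙 W))).left] :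
    ∃ (Z : Over S) (e : FX.RepresentableBy Z), IsAffineHom (πX.app (op Z) (e.homEquiv (𝟙 Z))).left := by
  classical
  let w : W ⟶ U := πU.app (op W) (eU.homEquiv (𝟙 W))
  have hw : ∀ {T : Over S} (z : T ⟶ W), πU.app (op T) (eU.homEquiv z) = z ≫ w := fun z => app_homEquiv eU πU z
  have hT : ∀ T : Over S, _ := fun T => (Types.isPullback_iff _ _ _ _).1 (hsq.map ((evaluation _ _).obj (op T)))
  have hμ : ∀ {T : Over S} (ψ : FU.obj (op T)), πX.app (op T) (μ.app (op T) ψ) = πU.app (op T) ψ ≫ f := fun ψ =>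
    ConcreteCategory.congr_hom (congrArg (fun t => NatTrans.app t (op _)) hsq.w) ψ
  have hinj : ∀ {T : Over S} (z z' : T ⟶ W), μ.app (op T) (eU.homEquiv z) = μ.app (op T) (eU.homEquiv z') →
      z ≫ w = z' ≫ w → z = z' := fun {T} z z' h1 h2 =>
    eU.homEquiv.injective ((hT T).2.1 _ _ ⟨h1, (hw z).trans (h2.trans (hw z').symm)⟩)
  have hnat : ∀ {T' T : Over S} (g : T' ⟶ T) (z : T ⟶ W),
      FX.map g.op (μ.app (op T) (eU.homEquiv z)) = μ.app (op T') (eU.homEquiv (g ≫ z)) := by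
    intro T' T g z
    rw [eU.homEquiv_comp]
    exact (ConcreteCategory.congr_hom (μ.naturality g.op) _).symm
  let Rel : ∀ {T : Scheme.{u}}, (T ⟶ W.left) → (T ⟶ W.left) → Prop := fun {T} v v' =>
    v ≫ W.hom = v' ≫ W.hom ∧ ∀ (T₀ : Over S) (z z' : T₀ ⟶ W) (g : T₀.left ⟶ T), z.left = g ≫ v → z'.left = g ≫ v' →
      μ.app (op T₀) (eU.homEquiv z) = μ.app (op T₀) (eU.homEquiv z')
  have hRmk : ∀ {T₀ : Over S} (z z' : T₀ ⟶ W), μ.app (op T₀) (eU.homEquiv z) = μ.app (op T₀) (eU.homEquiv z') →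
      Rel z.left z'.left := by
    intro T₀ z z' h
    refine ⟨by rw [Over.w, Over.w], fun T₁ y y' g hy hy' => ?_⟩
    let g' : T₁ ⟶ T₀ := Over.homMk g (by rw [← Over.w z, ← Category.assoc, ← hy, Over.w])
    rw [show y = g' ≫ z from Over.OverMorphism.ext hy, show y' = g' ≫ z' from Over.OverMorphism.ext hy', ← hnat, ← hnat, h]
  have hRuniq : ∀ {T : Scheme.{u}} (v v' : T ⟶ W.left), Rel v v' → v ≫ w.left = v' ≫ w.left → v = v' := by
    intro T v v' ⟨hs, h⟩ hvw
    let T₀ : Over S := Over.mk (v ≫ W.hom)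
    let z : T₀ ⟶ W := Over.homMk v rfl
    let z' : T₀ ⟶ W := Over.homMk v' hs.symm
    exact congrArg CommaMorphism.left (hinj z z' (h T₀ z z' (𝟙 T) (Category.id_comp _).symm (Category.id_comp _).symm)
      (Over.OverMorphism.ext hvw))
  have hRex : ∀ {T : Scheme.{u}} (v : T ⟶ W.left) (x₁ : T ⟶ U.left), (v ≫ w.left) ≫ f.left = x₁ ≫ f.left →
      ∃ v' : T ⟶ W.left, v' ≫ w.left = x₁ ∧ Rel v v' := by
    intro T v x₁ h
    let T₀ : Over S := Over.mk (v ≫ W.hom)
    let z : T₀ ⟶ W := Over.homMk v rfl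
    let u₁ : T₀ ⟶ U := Over.homMk x₁ (by
      show x₁ ≫ U.hom = v ≫ W.hom
      rw [← Over.w f, ← Category.assoc, ← h, Category.assoc, Category.assoc, Over.w f, Over.w w])
    obtain ⟨ψ, hψ1, hψ2⟩ := (hT T₀).2.2 (μ.app (op T₀) (eU.homEquiv z)) u₁ (by
      show πX.app (op T₀) (μ.app (op T₀) (eU.homEquiv z)) = u₁ ≫ f
      rw [hμ, hw]
      exact Over.OverMorphism.ext h)
    refine ⟨(eU.homEquiv.symm ψ).left, ?_, hRmk z (eU.homEquiv.symm ψ) ?_⟩
    · have e : eU.homEquiv.symm ψ ≫ w = u₁ := by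
        rw [← hw, Equiv.apply_symm_apply]
        exact hψ2
      exact congrArg CommaMorphism.left e
    · rw [Equiv.apply_symm_apply]
      exact hψ1.symm
  have hRsymm : ∀ {T : Scheme.{u}} {v v' : T ⟶ W.left}, Rel v v' → Rel v' v := fun ⟨hs, h⟩ =>
    ⟨hs.symm, fun T₀ z z' g hz hz' => (h T₀ z' z g hz' hz).symm⟩
  have hRtrans : ∀ {T : Scheme.{u}} {v v' v'' : T ⟶ W.left}, Rel v v' → Rel v' v'' → Rel v v'' := by
    intro T v v' v'' ⟨hs, h⟩ ⟨hs', h'⟩
    refine ⟨hs.trans hs', fun T₀ z z'' g hz hz'' => ?_⟩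
    let z' : T₀ ⟶ W := Over.homMk (g ≫ v') (by rw [Category.assoc, ← hs, ← Category.assoc, ← hz, Over.w])
    exact (h T₀ z z' g hz rfl).trans (h' T₀ z' z'' g rfl hz'')
  have hRrefl : ∀ {T : Scheme.{u}} (v : T ⟶ W.left), Rel v v := fun v =>
    ⟨rfl, fun T₀ z z' g hz hz' => by rw [show z = z' from Over.OverMorphism.ext (hz.trans hz'.symm)]⟩
  have hRcomp : ∀ {T T' : Scheme.{u}} (g : T' ⟶ T) {v v' : T ⟶ W.left}, Rel v v' → Rel (g ≫ v) (g ≫ v') := by
    intro T T' g v v' ⟨hs, h⟩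
    exact ⟨by rw [Category.assoc, Category.assoc, hs], fun T₀ z z' g' hz hz' =>
      h T₀ z z' (g' ≫ g) (by rw [hz, Category.assoc]) (by rw [hz', Category.assoc])⟩
  choose mv hmv1 hmv2 using fun (T : Scheme.{u}) (v : T ⟶ W.left) (x₁ : T ⟶ U.left)
    (h : (v ≫ w.left) ≫ f.left = x₁ ≫ f.left) => hRex v x₁ h
  let move : ∀ {T : Scheme.{u}} (x₀ x₁ : T ⟶ U.left), x₀ ≫ f.left = x₁ ≫ f.left →
      Desc.Lifts (Over.mk w.left) x₀ → Desc.Lifts (Over.mk w.left) x₁ := fun {T} x₀ x₁ h v =>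
    ⟨mv T v.1 x₁ (by rw [show v.1 ≫ w.left = x₀ from v.2]; exact h), hmv1 _ _ _ _⟩
  have hmove : ∀ {T : Scheme.{u}} (x₀ x₁ : T ⟶ U.left) (h : x₀ ≫ f.left = x₁ ≫ f.left)
      (v : Desc.Lifts (Over.mk w.left) x₀), Rel v.1 (move x₀ x₁ h v).1 := fun x₀ x₁ h v => hmv2 _ _ _ _
  have hlu : ∀ {T : Scheme.{u}} {x : T ⟶ U.left} (v v' : Desc.Lifts (Over.mk w.left) x), Rel v.1 v'.1 → v = v' :=
    fun v v' h => Subtype.ext (hRuniq _ _ h (v.2.trans v'.2.symm))
  let D : Desc.SchDD f.left :=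
    { obj := Over.mk w.left
      φ := fun T x₀ x₁ h =>
        { toFun := move x₀ x₁ h
          invFun := move x₁ x₀ h.symm
          left_inv := fun v => hlu _ _ (hRsymm (hRtrans (hmove x₀ x₁ h v) (hmove x₁ x₀ h.symm _)))
          right_inv := fun v => hlu _ _ (hRsymm (hRtrans (hmove x₁ x₀ h.symm v) (hmove x₀ x₁ h _))) }
      φ_natural := fun T T' g x₀ x₁ h h' v v' hv => by
        refine hRuniq _ _ ?_ ?_
        · refine hRtrans (hRsymm (hmove _ _ h' v')) ?_
          rw [hv]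
          exact hRcomp g (hmove x₀ x₁ h v)
        · exact ((move _ _ h' v').2).trans (((congrArg (fun t => g ≫ t) (move x₀ x₁ h v).2).symm).trans (Category.assoc _ _ _).symm)
      φ_self := fun T x v => hlu _ _ (hRsymm (hmove x x rfl v))
      φ_comp := fun T x₀ x₁ x₂ h₀₁ h₁₂ v => hlu _ _
        (hRtrans (hRsymm (hRtrans (hmove x₀ x₁ h₀₁ v) (hmove x₁ x₂ h₁₂ _))) (hmove x₀ x₂ (h₀₁.trans h₁₂) v)) }
  haveI : IsAffineHom D.obj.hom := inferInstanceAs (IsAffineHom w.left)
  obtain ⟨Z, hZ, ⟨e⟩⟩ := SchDescent.SheafDesc.effective_fppf f.left D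
  let P := pullback f.left Z.hom
  let el : P ⟶ W.left := Over.Hom.left (Desc.SchDD.Hom.hom e.hom)
  let el' : W.left ⟶ P := Over.Hom.left (Desc.SchDD.Hom.hom e.inv)
  have hel : el ≫ w.left = pullback.fst _ _ := Over.w e.hom.hom
  have hi : el ≫ el' = 𝟙 _ := congrArg
    (fun k : (Desc.toDD f.left).obj Z ⟶ (Desc.toDD f.left).obj Z => k.hom.left) e.hom_inv_id
  have hi' : el' ≫ el = 𝟙 _ := congrArg (fun k : D ⟶ D => k.hom.left) e.inv_hom_id
  have hsame : ∀ {T : Scheme.{u}} (k k' : T ⟶ P), k ≫ pullback.snd _ _ = k' ≫ pullback.snd _ _ →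
      Rel (k ≫ el) (k' ≫ el) := by
    intro T k k' h
    have hx : (k ≫ pullback.fst _ _) ≫ f.left = (k' ≫ pullback.fst _ _) ≫ f.left := by
      rw [Category.assoc, Category.assoc, pullback.condition, reassoc_of% h]
    let V : Desc.Lifts ((Desc.toDD f.left).obj Z).obj (k ≫ pullback.fst _ _) := ⟨k, rfl⟩
    have h1 : (((Desc.toDD f.left).obj Z).φ _ _ hx V).1 = k' :=
      pullback.hom_ext (pullback.lift_fst _ _ _) ((pullback.lift_snd _ _ _).trans h)
    have h2 := e.hom.comm _ _ hx V (e.hom.push V) rfl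
    rw [h1] at h2
    have h3 := hmove _ _ hx (e.hom.push V)
    change (move _ _ hx (e.hom.push V)).1 = k' ≫ el at h2
    rwa [h2] at h3
  let ZS : Over S := Over.mk (Z.hom ≫ X.hom)
  let zx : ZS ⟶ X := Over.homMk Z.hom rfl
  let P' : Over S := Over.mk (pullback.snd f.left Z.hom ≫ ZS.hom)
  let q : P' ⟶ ZS := Over.homMk (pullback.snd f.left Z.hom) rfl
  have helS : el ≫ W.hom = pullback.snd f.left Z.hom ≫ Z.hom ≫ X.hom := by
    rw [← Over.w w, reassoc_of% hel, ← Over.w f, pullback.condition_assoc]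
  let v₀ : P' ⟶ W := Over.homMk el helS
  haveI : Flat q.left := inferInstanceAs (Flat (pullback.snd f.left Z.hom))
  haveI : Surjective q.left := inferInstanceAs (Surjective (pullback.snd f.left Z.hom))
  haveI : LocallyOfFinitePresentation q.left :=
    inferInstanceAs (LocallyOfFinitePresentation (pullback.snd f.left Z.hom))
  obtain ⟨ζ, hζ, -⟩ := Presieve.isSheafFor_singleton.1 (isSheafFor_cover hFX q)
    (μ.app (op P') (eU.homEquiv v₀)) (fun {R} p₁ p₂ hp => by
      rw [hnat, hnat]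
      exact (hsame p₁.left p₂.left (congrArg CommaMorphism.left hp)).2 R _ _ (𝟙 _)
        (Category.id_comp _).symm (Category.id_comp _).symm)
  have hπζ : πX.app (op ZS) ζ = zx := by
    haveI : Epi q := by
      haveI : Epi q.left := Flat.epi_of_flat_of_surjective q.left
      exact Over.epi_of_epi_left q
    rw [← cancel_epi q]
    refine ((ConcreteCategory.congr_hom (πX.naturality q.op) ζ).symm.trans ?_)
    show πX.app (op P') (FX.map q.op ζ) = q ≫ zx
    rw [hζ, hμ, hw, Category.assoc]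
    refine Over.OverMorphism.ext ?_
    show el ≫ w.left ≫ f.left = pullback.snd f.left Z.hom ≫ Z.hom
    rw [reassoc_of% hel, pullback.condition]
  have hπmap : ∀ {T : Over S} (z : T ⟶ ZS), πX.app (op T) (FX.map z.op ζ) = z ≫ zx := fun z =>
    ((ConcreteCategory.congr_hom (πX.naturality z.op) ζ)).trans (congrArg (fun t => z ≫ t) hπζ)
  -- the cover of a test object
  let cov : ∀ {T : Over S} (x : T ⟶ X), Over S := fun {T} x => Over.mk (pullback.fst x.left f.left ≫ T.hom)
  let cπ : ∀ {T : Over S} (x : T ⟶ X), cov x ⟶ T := fun {T} x => Over.homMk (pullback.fst x.left f.left) rfl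
  let cu : ∀ {T : Over S} (x : T ⟶ X), cov x ⟶ U := fun {T} x => Over.homMk (pullback.snd x.left f.left) (by
    show pullback.snd x.left f.left ≫ U.hom = pullback.fst x.left f.left ≫ T.hom
    rw [← Over.w f, ← pullback.condition_assoc, Over.w])
  have hcov : ∀ {T : Over S} (x : T ⟶ X), cπ x ≫ x = cu x ≫ f := fun x =>
    Over.OverMorphism.ext pullback.condition
  have hlift : ∀ {T' : Over S} (z : T' ⟶ ZS) (u : T' ⟶ U), z ≫ zx = u ≫ f →
      ∃ k : T' ⟶ P', k ≫ q = z ∧ k ≫ v₀ ≫ w = u := by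
    intro T' z u h
    let k : T' ⟶ P' := Over.homMk (pullback.lift u.left z.left (congrArg CommaMorphism.left h).symm) (by
      show pullback.lift _ _ _ ≫ pullback.snd f.left Z.hom ≫ ZS.hom = T'.hom
      rw [pullback.lift_snd_assoc, Over.w])
    refine ⟨k, Over.OverMorphism.ext (pullback.lift_snd _ _ _), Over.OverMorphism.ext ?_⟩
    show pullback.lift _ _ _ ≫ el ≫ w.left = u.left
    rw [hel, pullback.lift_fst]
  have hbij : ∀ T : Over S, Function.Bijective (fun z : T ⟶ ZS => FX.map z.op ζ) := by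
    intro T
    have hin : ∀ {T : Over S} (z z' : T ⟶ ZS), FX.map z.op ζ = FX.map z'.op ζ → z = z' := by
      intro T z z' h
      have hx : z ≫ zx = z' ≫ zx := by rw [← hπmap, ← hπmap, h]
      haveI : Flat (cπ (z ≫ zx)).left := inferInstanceAs (Flat (pullback.fst _ _))
      haveI : Surjective (cπ (z ≫ zx)).left := inferInstanceAs (Surjective (pullback.fst _ _))
      obtain ⟨k, hk1, hk2⟩ := hlift (cπ (z ≫ zx) ≫ z) (cu _) (by rw [Category.assoc, hcov])
      obtain ⟨k', hk'1, hk'2⟩ := hlift (cπ (z ≫ zx) ≫ z') (cu _) (by rw [Category.assoc, ← hx, hcov])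
      have e : k ≫ v₀ = k' ≫ v₀ := by
        refine hinj _ _ ?_ (by rw [Category.assoc, Category.assoc, hk2, hk'2])
        rw [← hnat, ← hnat, ← hζ, map_comp', map_comp', hk1, hk'1, ← map_comp', ← map_comp', h]
      have ekk : k = k' := by
        refine Over.OverMorphism.ext ?_
        have := congrArg (fun t => CommaMorphism.left t ≫ el') e
        change (k.left ≫ el) ≫ el' = (k'.left ≫ el) ≫ el' at this
        simp only [Category.assoc, hi] at this
        exact (Category.comp_id k.left).symm.trans (this.trans (Category.comp_id k'.left))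
      haveI : Epi (cπ (z ≫ zx)) := by
        haveI : Epi (cπ (z ≫ zx)).left := Flat.epi_of_flat_of_surjective _
        exact Over.epi_of_epi_left _
      rw [← cancel_epi (cπ (z ≫ zx)), ← hk1, ← hk'1, ekk]
    refine ⟨fun z z' h => hin z z' h, fun φ => ?_⟩
    let x : T ⟶ X := πX.app (op T) φ
    haveI : Flat (cπ x).left := inferInstanceAs (Flat (pullback.fst _ _))
    haveI : Surjective (cπ x).left := inferInstanceAs (Surjective (pullback.fst _ _))
    haveI : LocallyOfFinitePresentation (cπ x).left := inferInstanceAs (LocallyOfFinitePresentation (pullback.fst _ _))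
    obtain ⟨ψ, hψ1, hψ2⟩ := (hT (cov x)).2.2 (FX.map (cπ x).op φ) (cu x)
      (((ConcreteCategory.congr_hom (πX.naturality (cπ x).op) φ)).trans (hcov x))
    let k : cov x ⟶ P' := Over.homMk ((eU.homEquiv.symm ψ).left ≫ el') (by
      show ((eU.homEquiv.symm ψ).left ≫ el') ≫ pullback.snd f.left Z.hom ≫ Z.hom ≫ X.hom = _
      rw [← helS, Category.assoc, reassoc_of% hi', Over.w])
    have hk : k ≫ v₀ = eU.homEquiv.symm ψ := Over.OverMorphism.ext (by
      show ((eU.homEquiv.symm ψ).left ≫ el') ≫ el = _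
      rw [Category.assoc, hi', Category.comp_id])
    have hkζ : FX.map (k ≫ q).op ζ = FX.map (cπ x).op φ := by
      rw [← map_comp', hζ, hnat, hk, Equiv.apply_symm_apply]
      exact hψ1
    obtain ⟨z, hz, -⟩ := Presieve.isSheafFor_singleton.1
      (isSheafFor_cover (F := yoneda.obj ZS) ((fppf S).yoneda.obj ZS).property (cπ x)) (k ≫ q) (fun p₁ p₂ hp => by
        refine hin _ _ ?_
        show FX.map (p₁ ≫ k ≫ q).op ζ = FX.map (p₂ ≫ k ≫ q).op ζ
        rw [← map_comp' p₁ (k ≫ q), ← map_comp' p₂ (k ≫ q), hkζ, map_comp', map_comp', hp])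
    refine ⟨z, ext_cover hFX (cπ x) ?_⟩
    show FX.map (cπ x).op (FX.map z.op ζ) = _
    rw [map_comp', show cπ x ≫ z = k ≫ q from hz, hkζ]
  refine ⟨ZS, { homEquiv := fun {T} => Equiv.ofBijective _ (hbij T),
                homEquiv_comp := fun g z => (map_comp' g z ζ).symm }, ?_⟩
  show IsAffineHom (πX.app (op ZS) (FX.map (𝟙 ZS : ZS ⟶ ZS).op ζ)).left
  rw [hπmap, Category.id_comp]
  exact hZ

end Groth.Agent.MagnetAtlas
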