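import Groth.Agent.MagnetAtlas.Square
import Groth.Agent.MagnetAttr.Sep
import Mathlib

/-!
# Images of attractors along an atlas
-/

set_option autoImplicit false
set_option backward.isDefEq.respectTransparency false
set_option backward.isDefEq.respectTransparency.types false
set_option linter.style.haveILetI false
set_option maxHeartbeats 1000000
set_option synthInstance.maxHeartbeats 100000

universe u

open CategoryTheory CategoryTheory.Limits MonoidalCategory CartesianMonoidalCategory MonObj AlgebraicGeometry Opposite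
open Magnet

namespace Groth.Agent.MagnetAtlas

variable {S : Scheme.{u}} {M : Type} [AddCommGroup M] {X U : Over S}
  {aX : MonAct (AMonS S M) X} {aU : MonAct (AMonS S M) U} {f : U ⟶ X}

/-- The subgroup underlying the face of invertible elements. -/
def unitGroup (N : AddSubmonoid M) : AddSubgroup M where
  toAddSubmonoid := unitFace N
  neg_mem' := by
    rintro x ⟨hx, y, hy, hxy⟩
    obtain rfl : y = -x := (neg_eq_of_add_eq_zero_right hxy).symm
    exact ⟨hy, x, hx, neg_add_cancel x⟩

theorem attrToX_postcomp (hf : MonAct.IsEquivariant aU aX f) (N : AddSubmonoid M) {T : Over S}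
    (ψ : (attr aU N).obj (op T)) :
    (attrToX aX N).app (op T) ((MonAct.eqvHom.postcomp (subAct S M N) f hf).app (op T) ψ) =
      (attrToX aU N).app (op T) ψ ≫ f := by
  show lift (toUnit T ≫ η[AMonS S N]) (𝟙 T) ≫ ψ.1 ≫ f = (lift (toUnit T ≫ η[AMonS S N]) (𝟙 T) ≫ ψ.1) ≫ f
  exact (Category.assoc _ _ _).symm

theorem exists_of_isPullback {FU FX : (Over S)ᵒᵖ ⥤ Type u} {m : FU ⟶ FX} {πU : FU ⟶ yoneda.obj U}
    {πX : FX ⟶ yoneda.obj X} (h : IsPullback m πU πX (yoneda.map f)) {T : Over S} (a : FX.obj (op T)) (b : T ⟶ U)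
    (e : πX.app (op T) a = b ≫ f) : ∃ p, m.app (op T) p = a ∧ πU.app (op T) p = b :=
  ((Types.isPullback_iff _ _ _ _).1 (h.map ((evaluation _ _).obj (op T)))).2.2 a b e

theorem app_map' {F : (Over S)ᵒᵖ ⥤ Type u} {Y : Over S} (ν : F ⟶ yoneda.obj Y) {A B : Over S} (g : A ⟶ B)
    (θ : F.obj (op B)) : ν.app (op A) (F.map g.op θ) = g ≫ ν.app (op B) θ :=
  ConcreteCategory.congr_hom (ν.naturality g.op) θ

/-- An inclusion of images of attractors holds if it holds on the atlas. -/
theorem range_subset [AddGroup.FG M] [IsSeparated X.hom] [LocallyOfFinitePresentation X.hom] [IsAffineHom U.hom]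
    [Etale f.left] [Surjective f.left] (hf : MonAct.IsEquivariant aU aX f) (N L : AddSubmonoid M)
    (hfZ : MonAct.IsEquivariant (aU.restrict (AMonS.map S (QuotientAddGroup.mk' (unitGroup N))))
      (aX.restrict (AMonS.map S (QuotientAddGroup.mk' (unitGroup N)))) f)
    (hfpr : IsPullback (MonAct.fixedPsh.map f hfZ)
      (MonAct.fixedPshι (aU.restrict (AMonS.map S (QuotientAddGroup.mk' (unitGroup N)))))
      (MonAct.fixedPshι (aX.restrict (AMonS.map S (QuotientAddGroup.mk' (unitGroup N))))) (yoneda.map f))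
    (hU : ∀ T : Over S, Set.range (fun φ => (attrToX aU N).app (op T) φ) ⊆
      Set.range (fun φ => (attrToX aU L).app (op T) φ)) (T : Over S) :
    Set.range (fun φ => (attrToX aX N).app (op T) φ) ⊆ Set.range (fun φ => (attrToX aX L).app (op T) φ) := by
  rintro _ ⟨φ, rfl⟩
  have hsq := isPullback_limMap hf N (unitGroup N) rfl hfZ hfpr (Or.inr ⟨inferInstance, inferInstance⟩)
  let x : T ⟶ X := (limMap aX N).app (op T) φ
  let T' : Over S := Over.mk (pullback.fst x.left f.left ≫ T.hom)
  let π : T' ⟶ T := Over.homMk (pullback.fst x.left f.left) rfl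
  let u : T' ⟶ U := Over.homMk (pullback.snd x.left f.left) (by
    show pullback.snd x.left f.left ≫ U.hom = pullback.fst x.left f.left ≫ T.hom
    rw [← Over.w f, ← pullback.condition_assoc, Over.w])
  haveI : Flat π.left := inferInstanceAs (Flat (pullback.fst _ _))
  haveI : Surjective π.left := inferInstanceAs (Surjective (pullback.fst _ _))
  haveI : LocallyOfFinitePresentation π.left := inferInstanceAs (LocallyOfFinitePresentation (pullback.fst _ _))
  obtain ⟨ψ, hψ1, -⟩ := exists_of_isPullback hsq ((attr aX N).map π.op φ) u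
    ((app_map' (limMap aX N) π φ).trans (Over.OverMorphism.ext pullback.condition))
  obtain ⟨ψ', hψ'⟩ := hU T' ⟨ψ, rfl⟩
  let χ := (MonAct.eqvHom.postcomp (subAct S M L) f hf).app (op T') ψ'
  have hnat : ∀ {A B : Over S} (g : A ⟶ B) (K : AddSubmonoid M) (θ : (attr aX K).obj (op B)),
      (attrToX aX K).app (op A) ((attr aX K).map g.op θ) = g ≫ (attrToX aX K).app (op B) θ :=
    fun g K θ => app_map' (attrToX aX K) g θ
  have hχ : (attrToX aX L).app (op T') χ = π ≫ (attrToX aX N).app (op T) φ := by
    rw [attrToX_postcomp hf L ψ', show (attrToX aU L).app (op T') ψ' = (attrToX aU N).app (op T') ψ from hψ',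
      ← attrToX_postcomp hf N ψ, ← hnat]
    exact congrArg _ hψ1
  obtain ⟨θ, hθ, -⟩ := Presieve.isSheafFor_singleton.1
    (isSheafFor_cover (MagnetAttr.isSheaf_eqvHom (fppf S) (subAct S M L) aX) π) χ (fun {R} p₁ p₂ hp => by
      refine MagnetAttr.attrToX_injective aX L R ?_
      show (attrToX aX L).app (op R) ((attr aX L).map p₁.op χ) = (attrToX aX L).app (op R) ((attr aX L).map p₂.op χ)
      rw [hnat, hnat, hχ, reassoc_of% hp])
  refine ⟨θ, ?_⟩
  haveI : Epi π := by
    haveI : Epi π.left := Flat.epi_of_flat_of_surjective π.left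
    exact Over.epi_of_epi_left π
  show (attrToX aX L).app (op T) θ = (attrToX aX N).app (op T) φ
  rw [← cancel_epi π, ← hnat, ← hχ]
  exact congrArg _ hθ

end Groth.Agent.MagnetAtlas
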