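import Groth.Agent.MagnetAtlas.Square
import Mathlib

/-!
# Representability of attractors along an atlas
-/

set_option autoImplicit false
set_option backward.isDefEq.respectTransparency false
set_option backward.isDefEq.respectTransparency.types false
set_option linter.style.haveILetI false
set_option maxHeartbeats 1000000
set_option synthInstance.maxHeartbeats 100000

universe u

open CategoryTheory CategoryTheory.Limits MonoidalCategory CartesianMonoidalCategory MonObj AlgebraicGeometry Opposite
open Magnet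

namespace Groth.Agent.MagnetAtlas

variable {S : Scheme.{u}} {M : Type} [AddCommGroup M] {X U : Over S}
  {aX : MonAct (AMonS S M) X} {aU : MonAct (AMonS S M) U} {f : U ⟶ X}

theorem exists_rep_attrFace [AddGroup.FG M] [IsAffineHom U.hom] [Etale f.left] [Surjective f.left]
    (hf : MonAct.IsEquivariant aU aX f) (N : AddSubmonoid M) (Z : AddSubgroup M) (hZ : Z.toAddSubmonoid = unitFace N)
    (hfZ : MonAct.IsEquivariant (aU.restrict (AMonS.map S (QuotientAddGroup.mk' Z)))
      (aX.restrict (AMonS.map S (QuotientAddGroup.mk' Z))) f)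
    (hfpr : IsPullback (MonAct.fixedPsh.map f hfZ)
      (MonAct.fixedPshι (aU.restrict (AMonS.map S (QuotientAddGroup.mk' Z))))
      (MonAct.fixedPshι (aX.restrict (AMonS.map S (QuotientAddGroup.mk' Z)))) (yoneda.map f))
    (h : N.FG ∨ (IsSeparated X.hom ∧ LocallyOfFinitePresentation X.hom)) :
    ∃ (ZN Zs : Over S) (eN : (attr aX N).RepresentableBy ZN) (es : (attr aX (unitFace N)).RepresentableBy Zs)
      (j : ZN ⟶ Zs), IsAffineHom j.left ∧ ∀ (T : Over S) (z : T ⟶ ZN),
        es.homEquiv (z ≫ j) = (attrFace aX (isFace_unitFace N)).app (op T) (eN.homEquiv z) := by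
  obtain ⟨Zs, es, hs⟩ := exists_rep_of_square hf (unitFace N) _ _ (isPullback_attrToX hf Z hfZ hfpr _ hZ)
  obtain ⟨ZN, eN, hN⟩ := exists_rep_of_square hf N _ _ (isPullback_limMap hf N Z hZ hfZ hfpr h)
  let ν := attrFace aX (isFace_unitFace N)
  let j : ZN ⟶ Zs := es.homEquiv.symm (ν.app (op ZN) (eN.homEquiv (𝟙 ZN)))
  refine ⟨ZN, Zs, eN, es, j, ?_, fun T z => ?_⟩
  · haveI := hs
    haveI := hN
    let ps : Zs ⟶ X := (attrToX aX (unitFace N)).app (op Zs) (es.homEquiv (𝟙 Zs))
    let pN : ZN ⟶ X := (limMap aX N).app (op ZN) (eN.homEquiv (𝟙 ZN))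
    have e : j ≫ ps = pN := by
      rw [← app_homEquiv es (attrToX aX (unitFace N)) j, Equiv.apply_symm_apply]
      rfl
    haveI : IsAffineHom (j.left ≫ ps.left) := by
      rw [← Over.comp_left, e]
      exact hN
    exact MorphismProperty.of_postcomp (W := @IsAffineHom) (W' := @IsSeparated) _ ps.left
      (haveI : IsAffineHom ps.left := hs; inferInstance) inferInstance
  · rw [es.homEquiv_comp, Equiv.apply_symm_apply, eN.homEquiv_eq z]
    exact (ConcreteCategory.congr_hom (ν.naturality z.op) _).symm

end Groth.Agent.MagnetAtlas
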