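import Groth.Agent.MagnetAtlas.Descent
import Groth.Agent.MagnetEtale.Glue
import Groth.Agent.MagnetAttrRep.Main
import Groth.Agent.MagnetSub
import Groth.Prelude.Def_Magnet3
import Mathlib

/-!
# The square of attractors over an atlas
-/

set_option autoImplicit false
set_option backward.isDefEq.respectTransparency false
set_option backward.isDefEq.respectTransparency.types false
set_option linter.style.haveILetI false
set_option maxHeartbeats 1000000
set_option synthInstance.maxHeartbeats 100000

universe u

open CategoryTheory CategoryTheory.Limits MonoidalCategory CartesianMonoidalCategory MonObj AlgebraicGeometry Opposite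
open Magnet

namespace Groth.Agent.MagnetAtlas

variable {S : Scheme.{u}} {M : Type} [AddCommGroup M] {X U : Over S}
  {aX : MonAct (AMonS S M) X} {aU : MonAct (AMonS S M) U} {f : U ⟶ X}

/-- The limit map from the attractor to the space. -/
noncomputable abbrev limMap {Y : Over S} (a : MonAct (AMonS S M) Y) (N : AddSubmonoid M) : attr a N ⟶ yoneda.obj Y :=
  attrFace a (isFace_unitFace N) ≫ attrToX a (unitFace N)

/-- The fixed-point-reflecting square for the attractor of a subgroup. -/
theorem isPullback_attrToX (hf : MonAct.IsEquivariant aU aX f) (Z : AddSubgroup M)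
    (hfZ : MonAct.IsEquivariant (aU.restrict (AMonS.map S (QuotientAddGroup.mk' Z)))
      (aX.restrict (AMonS.map S (QuotientAddGroup.mk' Z))) f)
    (hfpr : IsPullback (MonAct.fixedPsh.map f hfZ)
      (MonAct.fixedPshι (aU.restrict (AMonS.map S (QuotientAddGroup.mk' Z))))
      (MonAct.fixedPshι (aX.restrict (AMonS.map S (QuotientAddGroup.mk' Z)))) (yoneda.map f))
    (F : AddSubmonoid M) (hF : Z.toAddSubmonoid = F) :
    IsPullback (MonAct.eqvHom.postcomp (subAct S M F) f hf) (attrToX aU F) (attrToX aX F) (yoneda.map f) := by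
  subst hF
  haveI := MagnetSub.isIso_toFixed aU Z
  haveI := MagnetSub.isIso_toFixed aX Z
  have hw : MonAct.eqvHom.postcomp (subAct S M Z.toAddSubmonoid) f hf ≫ MagnetSub.toFixed aX Z =
      MagnetSub.toFixed aU Z ≫ MonAct.fixedPsh.map f hfZ := by
    ext T φ
    refine Subtype.ext ?_
    show lift (toUnit (unop T) ≫ η[AMonS S Z.toAddSubmonoid]) (𝟙 (unop T)) ≫ φ.1 ≫ f =
      (lift (toUnit (unop T) ≫ η[AMonS S Z.toAddSubmonoid]) (𝟙 (unop T)) ≫ φ.1) ≫ f
    exact (Category.assoc _ _ _).symm
  exact (IsPullback.of_vert_isIso ⟨hw⟩).paste_vert hfpr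

/-- The attractor square over the limit maps is cartesian. -/
theorem isPullback_limMap [AddGroup.FG M] [IsAffineHom U.hom] [Etale f.left] (hf : MonAct.IsEquivariant aU aX f)
    (N : AddSubmonoid M) (Z : AddSubgroup M) (hZ : Z.toAddSubmonoid = unitFace N)
    (hfZ : MonAct.IsEquivariant (aU.restrict (AMonS.map S (QuotientAddGroup.mk' Z)))
      (aX.restrict (AMonS.map S (QuotientAddGroup.mk' Z))) f)
    (hfpr : IsPullback (MonAct.fixedPsh.map f hfZ)
      (MonAct.fixedPshι (aU.restrict (AMonS.map S (QuotientAddGroup.mk' Z))))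
      (MonAct.fixedPshι (aX.restrict (AMonS.map S (QuotientAddGroup.mk' Z)))) (yoneda.map f))
    (h : N.FG ∨ (IsSeparated X.hom ∧ LocallyOfFinitePresentation X.hom)) :
    IsPullback (MonAct.eqvHom.postcomp (subAct S M N) f hf) (limMap aU N) (limMap aX N) (yoneda.map f) :=
  (MagnetEtale.isPullback_attrFace hf (isFace_unitFace N) h).paste_vert (isPullback_attrToX hf Z hfZ hfpr _ hZ)

theorem exists_rep_of_square [IsAffineHom U.hom] [Etale f.left] [Surjective f.left] (hf : MonAct.IsEquivariant aU aX f)
    (N : AddSubmonoid M) (πU : attr aU N ⟶ yoneda.obj U) (πX : attr aX N ⟶ yoneda.obj X)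
    (hsq : IsPullback (MonAct.eqvHom.postcomp (subAct S M N) f hf) πU πX (yoneda.map f)) :
    ∃ (Z : Over S) (e : (attr aX N).RepresentableBy Z), IsAffineHom (πX.app (op Z) (e.homEquiv (𝟙 Z))).left := by
  obtain ⟨W, i, eU, hi, -⟩ := MagnetAttrRep.exists_representable aU N
  haveI := hi
  haveI : IsAffineHom W.hom := by rw [← Over.w i]; infer_instance
  haveI : IsAffineHom (πU.app (op W) (eU.homEquiv (𝟙 W))).left := by
    haveI : IsAffineHom ((πU.app (op W) (eU.homEquiv (𝟙 W))).left ≫ U.hom) := by
      erw [Over.w]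
      infer_instance
    exact MorphismProperty.of_postcomp (W := @IsAffineHom) (W' := @IsSeparated) _ U.hom inferInstance inferInstance
  exact exists_representable f (MagnetAttr.isSheaf_eqvHom (fppf S) (subAct S M N) aX)
    (MonAct.eqvHom.postcomp (subAct S M N) f hf) πU πX hsq eU

end Groth.Agent.MagnetAtlas
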